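import Groth.Agent.QCoh.ExtendFT
import Groth.Agent.QCoh.Localize
import Groth.Agent.Bounded.Presented
import Mathlib.RingTheory.Filtration

/-!
# Extending a submodule while keeping it transversal to the kernel of a map

On a locally Noetherian scheme a coherent submodule `N` over an open, meeting `ker q` trivially, extends to
a coherent submodule of the whole scheme with the same property (Artin-Rees and Zorn).
-/

universe u

set_option backward.isDefEq.respectTransparency false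
set_option backward.isDefEq.respectTransparency.types false

open CategoryTheory CategoryTheory.Limits AlgebraicGeometry TopologicalSpace Opposite

namespace Groth.Agent.HomExtendX

open Groth.Agent.QCoh

/-- Artin-Rees: high powers of the generators of an ideal kill the intersection with a kernel. -/
theorem exists_pow_span {R M M' : Type*} [CommRing R] [IsNoetherianRing R] [AddCommGroup M] [Module R M]
    [Module.Finite R M] [AddCommGroup M'] [Module R M'] (L : Submodule R M) (q : M →ₗ[R] M') (F : Finset R)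
    (hk : ∀ x ∈ L, q x = 0 → ∀ f ∈ F, ∃ n : ℕ, f ^ n • x = 0) :
    ∃ m : ℕ, ∀ x ∈ Ideal.span ((fun f => f ^ m) '' (F : Set R)) • L, q x = 0 → x = 0 := by
  classical
  let I : Ideal R := Ideal.span (F : Set R)
  let K : Submodule R M := L ⊓ LinearMap.ker q
  obtain ⟨T, hT⟩ : K.FG := IsNoetherian.noetherian K
  have hrad : I ≤ K.annihilator.radical := Ideal.span_le.2 fun f hf => by
    have h : ∀ t : T, ∃ n : ℕ, f ^ n • (t : M) = 0 := fun t =>
      hk t ((hT ▸ Submodule.subset_span t.2 : (t : M) ∈ K).1)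
        ((hT ▸ Submodule.subset_span t.2 : (t : M) ∈ K).2) f hf
    choose n hn using h
    refine ⟨T.attach.sup n, ?_⟩
    rw [← hT, Submodule.mem_annihilator_span]
    intro t
    obtain ⟨k, hk'⟩ := Nat.exists_eq_add_of_le' (Finset.le_sup (f := n) (Finset.mem_attach T t))
    rw [hk', pow_add, mul_smul, hn, smul_zero]
  obtain ⟨N₀, hN₀⟩ := Ideal.exists_pow_le_of_le_radical_of_fg hrad ⟨F, rfl⟩
  obtain ⟨k, hk'⟩ := I.exists_pow_inf_eq_pow_smul K
  refine ⟨k + N₀, fun x hx hqx => ?_⟩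
  have h1 : x ∈ I ^ (k + N₀) • (⊤ : Submodule R M) ⊓ K :=
    ⟨Submodule.smul_mono (Ideal.span_le.2 (by
      rintro _ ⟨f, hf, rfl⟩
      exact Ideal.pow_mem_pow (Ideal.subset_span hf) _)) le_top hx, Submodule.smul_le_right hx, hqx⟩
  rw [hk' _ (Nat.le_add_right _ _), Nat.add_sub_cancel_left] at h1
  have h2 := Submodule.smul_mono hN₀ inf_le_right h1
  rwa [Submodule.annihilator_smul, Submodule.mem_bot] at h2

variable {X : Scheme.{u}} {G H : X.Modules} (q : G ⟶ H)

/-- The submodule meets the kernel of `q` trivially on opens of `W`. -/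
def Sep (N : SubMod G) (W : X.Opens) : Prop :=
  ∀ O, O ≤ W → ∀ s ∈ N.mem O, q.app O s = 0 → s = 0

/-- The global sections of a submodule generate it on an affine open where it is of finite type. -/
theorem genBy_mem {N : SubMod G} {W V : X.Opens} (hG : Coh.IsQCoh G) (hN : FTOn N W) (hV : IsAffineOpen V)
    (hVW : V ≤ W) {T : Set Γ(G, V)} (hfin : T.Finite) (hT : Submodule.span Γ(X, V) T = N.mem V) :
    GenBy N V T := by
  refine ⟨hfin, fun t ht => hT ▸ Submodule.subset_span ht, fun O hO s hs y hy => ?_⟩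
  obtain ⟨f₀, -, hyf₀, T₀, hT₀⟩ := hN.exists_gen_le hV (hVW (hO hy)) (hO hy)
  obtain ⟨g, hg, hyg⟩ := hV.exists_basicOpen_le (V := X.basicOpen f₀ ⊓ O) ⟨y, ⟨hyf₀, hy⟩⟩ (hO hy)
  refine ⟨X.basicOpen g, hg.trans inf_le_right, hyg, ?_⟩
  have hu := isUnit_rf_basicOpen g
  have hzero : ∀ t ∈ N.mem (X.basicOpen g),
      t ∈ Submodule.span Γ(X, X.basicOpen g) (rs G (X.basicOpen_le g) '' T) := by
    intro t ht
    obtain ⟨n, z, hz⟩ := exists_pow_smul_eq_map hG hV g t
    have hzN : rs G (inf_le_right.trans le_rfl) z ∈ N.mem (X.basicOpen g ⊓ V) := by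
      rw [← rs_rs (X.basicOpen_le g) inf_le_left]
      refine N.map_mem inf_le_left ?_
      rw [rs, hz]
      exact Submodule.smul_mem _ _ ht
    obtain ⟨m, hm⟩ := exists_pow_smul_mem hG hN hV le_rfl hVW hV.isCompact g z hzN
    rw [rs_self, ← hT] at hm
    have hm' := rs_mem_span (X.basicOpen_le g) hm
    rw [rs_smul, rs, hz, ← mul_smul, rf, map_pow, ← pow_add] at hm'
    exact (Submodule.smul_mem_iff_of_isUnit _ (hu.pow (m + n))).1 hm'
  exact hzero _ (N.map_mem _ hs)

/-- Sections of `N` lying locally in the span of `T` on `V`. -/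
noncomputable def spanIn (N : SubMod G) (V : X.Opens) (T : Set Γ(G, V)) : SubMod G where
  mem O :=
    { carrier := {s | s ∈ N.mem O ∧ ∀ x ∈ O, x ∈ V →
        ∃ (P : X.Opens) (hPO : P ≤ O) (hPV : P ≤ V), x ∈ P ∧
          rs G hPO s ∈ Submodule.span Γ(X, P) (rs G hPV '' T)}
      zero_mem' := ⟨zero_mem _, fun x hx hxV =>
        ⟨O ⊓ V, inf_le_left, inf_le_right, ⟨hx, hxV⟩, by rw [rs, map_zero]; exact zero_mem _⟩⟩
      add_mem' := fun {a b} ha hb => ⟨add_mem ha.1 hb.1, fun x hx hxV => by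
        obtain ⟨P, hPO, hPV, hxP, hP⟩ := ha.2 x hx hxV
        obtain ⟨Q, hQO, hQV, hxQ, hQ⟩ := hb.2 x hx hxV
        refine ⟨P ⊓ Q, inf_le_left.trans hPO, inf_le_left.trans hPV, ⟨hxP, hxQ⟩, ?_⟩
        rw [rs, map_add]
        refine add_mem ?_ ?_
        · have := span_image_rs_le hPV (inf_le_left : P ⊓ Q ≤ P) hP
          rwa [rs_rs] at this
        · have := span_image_rs_le hQV (inf_le_right : P ⊓ Q ≤ Q) hQ
          rwa [rs_rs] at this⟩
      smul_mem' := fun a s hs => ⟨Submodule.smul_mem _ _ hs.1, fun x hx hxV => by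
        obtain ⟨P, hPO, hPV, hxP, hP⟩ := hs.2 x hx hxV
        exact ⟨P, hPO, hPV, hxP, by rw [rs_smul]; exact Submodule.smul_mem _ _ hP⟩⟩ }
  map_mem {O O'} i {s} hs := ⟨N.map_mem i hs.1, fun x hx hxV => by
    obtain ⟨P, hPO, hPV, hxP, hP⟩ := hs.2 x (i hx) hxV
    refine ⟨P ⊓ O', inf_le_right, inf_le_left.trans hPV, ⟨hxP, hx⟩, ?_⟩
    have := span_image_rs_le hPV (inf_le_left : P ⊓ O' ≤ P) hP
    rw [rs_rs] at this
    change rs G _ (rs G i s) ∈ _
    rwa [rs_rs]⟩
  of_locally O s hs := ⟨N.of_locally _ _ fun x hx => by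
    obtain ⟨P, i, hxP, hP, -⟩ := hs x hx
    exact ⟨P, i, hxP, hP⟩, fun x hx hxV => by
    obtain ⟨P, i, hxP, -, hP⟩ := hs x hx
    obtain ⟨Q, hQP, hQV, hxQ, hQ⟩ := hP x hxP hxV
    change rs G _ (rs G i s) ∈ _ at hQ
    rw [rs_rs] at hQ
    exact ⟨Q, hQP.trans i, hQV, hxQ, hQ⟩⟩

variable [IsLocallyNoetherian X]

/-- Extension across an affine open, keeping the intersection with the kernel trivial. -/
theorem exists_sep_step (hG : Coh.IsCoh G) (hH : Coh.IsQCoh H) {N : SubMod G} {W : X.Opens} (hN : FTOn N W)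
    (hsep : Sep q N W) {V : X.Opens} (hV : IsAffineOpen V) :
    ∃ N' : SubMod G, (∀ O, O ≤ W → N'.mem O = N.mem O) ∧ FTOn N' (W ⊔ V) ∧ Sep q N' (W ⊔ V) := by
  classical
  haveI : IsNoetherianRing Γ(X, V) := IsLocallyNoetherian.component_noetherian ⟨V, hV⟩
  haveI : Module.Finite Γ(X, V) Γ(G, V) := finite_of_isFT hG.1 hG.2 hV
  haveI : NoetherianSpace (V : Set X) := noetherianSpace_of_isAffineOpen V hV
  have hVW : IsCompact ((V ⊓ W : X.Opens) : Set X) := by
    have h := NoetherianSpace.isCompact (α := (V : Set X)) (Subtype.val ⁻¹' (W : Set X))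
    have h2 := h.image continuous_subtype_val
    rwa [Subtype.image_preimage_coe] at h2
  obtain ⟨N₁, hW₁, hft₁⟩ := exists_ft_step hG.1 hN hV hVW
  obtain ⟨T, hT⟩ : (N₁.mem V).FG := IsNoetherian.noetherian _
  have hgen : GenBy N₁ V T := genBy_mem hG.1 hft₁ hV le_sup_right T.finite_toSet hT
  -- cover of `V ⊓ W`
  have hcov : ∀ x : (V ⊓ W : X.Opens), ∃ f : Γ(X, V), X.basicOpen f ≤ W ∧ x.1 ∈ X.basicOpen f :=
    fun x => hV.exists_basicOpen_le ⟨x.1, x.2.2⟩ x.2.1
  choose f hfW hxf using hcov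
  obtain ⟨F, hF⟩ := hVW.elim_finite_subcover (fun x : (V ⊓ W : X.Opens) => (X.basicOpen (f x) : Set X))
    (fun x => (X.basicOpen (f x)).2)
    fun x hx => Set.mem_iUnion.2 ⟨(⟨x, hx⟩ : (V ⊓ W : X.Opens)), hxf _⟩
  obtain ⟨m, hm⟩ := exists_pow_span (N₁.mem V) (appLin q V) (F.image f) (fun z hz hqz g hg => by
    obtain ⟨x, -, rfl⟩ := Finset.mem_image.1 hg
    refine exists_pow_smul_eq_zero hG.1 hV (f x) z (hsep _ (hfW x) _ ?_ ?_)
    · exact hW₁ _ (hfW x) ▸ N₁.map_mem (X.basicOpen_le (f x)) hz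
    · change q.app V z = 0 at hqz
      rw [map_app_comm, hqz, map_zero])
  let T' : Set Γ(G, V) := Set.image2 (fun g z => g ^ m • z) (F.image f : Set Γ(X, V)) (T : Set Γ(G, V))
  have hT'fin : T'.Finite := (F.image f).finite_toSet.image2 _ T.finite_toSet
  have hT'le : Submodule.span Γ(X, V) T' ≤
      Ideal.span ((fun g => g ^ m) '' (F.image f : Set Γ(X, V))) • N₁.mem V := Submodule.span_le.2 (by
    rintro _ ⟨g, hg, z, hz, rfl⟩
    exact Submodule.smul_mem_smul (Ideal.subset_span ⟨g, hg, rfl⟩) (hT ▸ Submodule.subset_span hz))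
  let N' := spanIn N₁ V T'
  have hW : ∀ O, O ≤ W → N'.mem O = N.mem O := fun O hO => by
    ext s
    refine ⟨fun hs => hW₁ O hO ▸ hs.1, fun hs => ?_⟩
    have hs₁ : s ∈ N₁.mem O := (hW₁ O hO).symm ▸ hs
    refine ⟨hs₁, fun x hx hxV => ?_⟩
    obtain ⟨y, hy, hxy⟩ := Set.mem_iUnion₂.1 (hF ⟨hxV, hO hx⟩)
    obtain ⟨P, hP, hxP, hsP⟩ := hgen.gen (O ⊓ X.basicOpen (f y)) (inf_le_right.trans (X.basicOpen_le _)) _
      (N₁.map_mem inf_le_left hs₁) x ⟨hx, hxy⟩
    change rs G hP (rs G _ s) ∈ _ at hsP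
    rw [rs_rs] at hsP
    have hPf : P ≤ X.basicOpen (f y) := hP.trans inf_le_right
    refine ⟨P, hP.trans inf_le_left, hPf.trans (X.basicOpen_le _), hxP, Submodule.span_le.2 ?_ hsP⟩
    rintro _ ⟨t, ht, rfl⟩
    have hu : IsUnit (rf X (hPf.trans (X.basicOpen_le (f y))) (f y)) := by
      have h := (isUnit_rf_basicOpen (f y)).map (X.presheaf.map (homOfLE hPf).op).hom
      rwa [← CommRingCat.comp_apply, ← Functor.map_comp] at h
    refine (Submodule.smul_mem_iff_of_isUnit _ (hu.pow m)).1 ?_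
    rw [← map_pow, ← rs_smul]
    exact Submodule.subset_span ⟨_, Set.mem_image2_of_mem (Finset.mem_image_of_mem f hy) ht, rfl⟩
  refine ⟨N', hW, fun x hx => ?_, fun O hO s hs hqs => ?_⟩
  · rcases hx with hx | hx
    · obtain ⟨V', hV', hxV', hle, T'', hT''⟩ := hN x hx
      exact ⟨V', hV', hxV', hle.trans le_sup_left, T'', hT''.congr fun O hO => (hW O (hO.trans hle)).symm⟩
    · refine ⟨V, hV, hx, le_sup_right, T', hT'fin, fun t ht => ⟨?_, fun y hy _ => ?_⟩,
        fun O hO s hs y hy => ?_⟩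
      · exact Submodule.smul_le_right (hT'le (Submodule.subset_span ht))
      · exact ⟨V, le_rfl, le_rfl, hy, Submodule.subset_span ⟨t, ht, rfl⟩⟩
      · obtain ⟨P, hPO, hPV, hyP, hP⟩ := hs.2 y hy (hO hy)
        exact ⟨P, hPO, hyP, hP⟩
  · refine eq_zero_of_locally O s fun x hx => ?_
    rcases hO hx with hxW | hxV
    · refine ⟨O ⊓ W, homOfLE inf_le_left, ⟨hx, hxW⟩, hsep _ inf_le_right _ ?_ ?_⟩
      · exact hW _ inf_le_right ▸ N'.map_mem inf_le_left hs
      · rw [map_app_comm, hqs, map_zero]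
    · obtain ⟨P, hPO, hPV, hxP, hP⟩ := hs.2 x hx hxV
      obtain ⟨g, hg, hxg⟩ := hV.exists_basicOpen_le (V := P) ⟨x, hxP⟩ hxV
      refine ⟨X.basicOpen g, homOfLE (hg.trans hPO), hxg, ?_⟩
      have h1 := span_image_rs_le hPV hg hP
      rw [rs_rs] at h1
      obtain ⟨n, z, hz, hze⟩ := exists_lift_span hV g T' h1
      have hq : rs H (X.basicOpen_le g) (q.app V z) = 0 := by
        show H.presheaf.map _ (q.app V z) = 0
        rw [← map_app_comm]
        change q.app _ (rs G _ z) = 0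
        rw [hze, Scheme.Modules.Hom.app_smul]
        change _ • q.app _ (G.presheaf.map (homOfLE (hg.trans hPO)).op s) = 0
        rw [map_app_comm, hqs, map_zero, smul_zero]
      obtain ⟨k, hk⟩ : ∃ k : ℕ, g ^ k • z = 0 := by
        obtain ⟨j, hj⟩ := exists_pow_smul_eq_zero hH hV g _ hq
        refine ⟨j, hm _ (Submodule.smul_mem _ _ (hT'le hz)) ?_⟩
        change q.app V (g ^ j • z) = 0
        rw [Scheme.Modules.Hom.app_smul, hj]
      have h2 := congrArg (rs G (X.basicOpen_le g)) hk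
      rw [rs_smul, hze, ← mul_smul] at h2
      simp only [rf, rs, map_zero, map_pow, ← pow_add] at h2
      exact ((isUnit_rf_basicOpen g).pow (k + n)).smul_eq_zero.1 h2

end Groth.Agent.HomExtendX
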