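import Groth.Agent.HomExtendX.Main

/-!
# Extending a transversal submodule to the whole scheme
-/

universe u

set_option backward.isDefEq.respectTransparency false
set_option backward.isDefEq.respectTransparency.types false

open CategoryTheory CategoryTheory.Limits AlgebraicGeometry TopologicalSpace Opposite

namespace Groth.Agent.HomExtendX

open Groth.Agent.QCoh

variable {X : Scheme.{u}} [IsLocallyNoetherian X] {G H : X.Modules} (q : G ⟶ H)

/-- A submodule of finite type meeting `ker q` trivially on `U` extends with the same properties. -/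
theorem exists_sep_top (hG : Coh.IsCoh G) (hH : Coh.IsQCoh H) {U : X.Opens} {N₀ : SubMod G}
    (h₀ : FTOn N₀ U) (hs₀ : Sep q N₀ U) :
    ∃ N : SubMod G, FTOn N ⊤ ∧ Sep q N ⊤ ∧ ∀ O, O ≤ U → N.mem O = N₀.mem O := by
  let S := {p : X.Opens × SubMod G // U ≤ p.1 ∧ FTOn p.2 p.1 ∧ Sep q p.2 p.1 ∧
    ∀ O, O ≤ U → p.2.mem O = N₀.mem O}
  let R : S → S → Prop := fun a b =>
    a.1.1 ≤ b.1.1 ∧ ∀ O, O ≤ a.1.1 → b.1.2.mem O = a.1.2.mem O
  obtain ⟨m, hm⟩ : ∃ m : S, ∀ a, R m a → R a m := by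
    refine exists_maximal_of_chains_bounded (r := R) (fun c hc => ?_)
      (fun {a b c} hab hbc => ⟨hab.1.trans hbc.1, fun O hO =>
        (hbc.2 O (hO.trans hab.1)).trans (hab.2 O hO)⟩)
    rcases c.eq_empty_or_nonempty with rfl | ⟨a₀, ha₀⟩
    · exact ⟨⟨(U, N₀), le_rfl, h₀, hs₀, fun _ _ => rfl⟩, fun a ha => (Set.notMem_empty a ha).elim⟩
    have : Nonempty c := ⟨⟨a₀, ha₀⟩⟩
    obtain ⟨N', hN', hft⟩ := exists_glue (G := G) (fun a : c => a.1.1.1) (fun a => a.1.1.2)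
      (fun a => a.1.2.2.1) (fun a b => by
        by_cases hab : a = b
        · subst hab; exact .inl ⟨le_rfl, fun _ _ => rfl⟩
        · exact hc a.2 b.2 fun h => hab (Subtype.ext h))
    refine ⟨⟨(⨆ a : c, a.1.1.1, N'), a₀.2.1.trans (le_iSup (fun a : c => a.1.1.1) ⟨a₀, ha₀⟩), hft, ?_,
      fun O hO => (hN' ⟨a₀, ha₀⟩ O (hO.trans a₀.2.1)).trans (a₀.2.2.2.2 O hO)⟩,
      fun a ha => ⟨le_iSup (fun a : c => a.1.1.1) ⟨a, ha⟩, hN' ⟨a, ha⟩⟩⟩
    intro O hO s hs hqs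
    refine eq_zero_of_locally O s fun x hx => ?_
    obtain ⟨a, ha⟩ := Opens.mem_iSup.1 (hO hx)
    refine ⟨O ⊓ a.1.1.1, homOfLE inf_le_left, ⟨hx, ha⟩, a.1.2.2.2.1 _ inf_le_right _ ?_ ?_⟩
    · exact hN' a _ inf_le_right ▸ N'.map_mem inf_le_left hs
    · rw [map_app_comm, hqs, map_zero]
  obtain ⟨⟨W, N⟩, hUW, hft, hsep, hag⟩ := m
  dsimp only at hUW hft hsep hag
  rcases eq_or_ne W ⊤ with rfl | hW
  · exact ⟨N, hft, hsep, hag⟩
  obtain ⟨x, hx⟩ : ∃ x : X, x ∉ W := by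
    by_contra h
    push_neg at h
    exact hW (top_unique fun x _ => h x)
  obtain ⟨V, hV, hxV, -⟩ := exists_isAffineOpen_mem_and_subset (x := x) (U := ⊤) trivial
  obtain ⟨N', hN', hft', hsep'⟩ := exists_sep_step q hG hH hft hsep hV
  have := hm ⟨(W ⊔ V, N'), hUW.trans le_sup_left, hft', hsep',
    fun O hO => (hN' O (hO.trans hUW)).trans (hag O hO)⟩ ⟨le_sup_left, hN'⟩
  exact absurd (this.1 (Or.inr hxV)) hx

end Groth.Agent.HomExtendX
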